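import Cfsg.Agent.Lib.Chev.All

/-!
# Certificates on the roots of `E₈` graded by the branch node
-/

set_option autoImplicit false
set_option maxRecDepth 100000

namespace CfsgLib.ChevCores.E8

open Cfsg.Lie CfsgLib.Chev

/-- Words in the fundamental reflections other than the one at the branch node. -/
def words : List (List (Fin chevE8.rank)) :=
  [[], [⟨4, by decide⟩, ⟨2, by decide⟩], [⟨4, by decide⟩, ⟨5, by decide⟩],
    [⟨4, by decide⟩, ⟨5, by decide⟩, ⟨6, by decide⟩]]

theorem words_ne : ∀ v ∈ words, ∀ j ∈ v, j.val ≠ 3 := by decide +kernel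

theorem rank_gt : 3 < chevE8.rank := by decide +kernel

theorem top_lt : ∀ r < chevE8.nroots, DataE8.co r 3 < 7 := by decide +kernel

theorem top_root : 239 < chevE8.nroots ∧ (6 : ℤ) ≤ DataE8.co 239 3 := by decide +kernel

theorem low : ∀ r < chevE8.nroots, 2 ≤ DataE8.co r 3 →
    DataE8.co r 3 - 1 ≤ DataE8.co (chevE8.reflectRoot 3 r) 3 := by decide +kernel

theorem desc : ∀ r < chevE8.nroots, 1 ≤ DataE8.co r 3 →
    DataE8.co (chevE8.reflectRoot 3 r) 3 < (if DataE8.co r 3 = 1 then 0 else DataE8.co r 3) ∨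
      ∃ j < chevE8.rank, j ≠ 3 ∧ chevE8.reflectRoot j r < r := by decide +kernel

theorem move : ∀ i < chevE8.rank, i ≠ 3 → ∀ p < chevE8.nroots / 2, DataE8.co p 3 = 0 →
    ∃ v ∈ words,
      DataE8.co (chevE8.reflectRoot 3 (v.foldr (fun j x => chevE8.reflectRoot j.val x) p)) 3 <
      DataE8.co (chevE8.reflectRoot 3
        (v.foldr (fun j x => chevE8.reflectRoot j.val x) (chevE8.simple i))) 3 := by decide +kernel

end CfsgLib.ChevCores.E8
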