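import Mathlib

/-!
# The largest normal subgroup of a subgroup inside another
-/

set_option autoImplicit false

namespace CfsgLib.ChevCores

variable {G : Type*} [Group G]

/-- The largest normal subgroup of `M` contained in `Y`. -/
noncomputable def coreIn (M Y : Subgroup G) : Subgroup G :=
  (Y.subgroupOf M).normalCore.map M.subtype

theorem coreIn_le_left (M Y : Subgroup G) : coreIn M Y ≤ M := Subgroup.map_subtype_le _

theorem coreIn_le_right (M Y : Subgroup G) : coreIn M Y ≤ Y := by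
  rintro _ ⟨x, hx, rfl⟩
  exact Subgroup.normalCore_le (Y.subgroupOf M) hx

theorem coreIn_conj_mem {M Y : Subgroup G} {m x : G} (hm : m ∈ M) (hx : x ∈ coreIn M Y) :
    m * x * m⁻¹ ∈ coreIn M Y := by
  obtain ⟨y, hy, rfl⟩ := hx
  exact ⟨⟨m, hm⟩ * y * ⟨m, hm⟩⁻¹, (Subgroup.normalCore_normal _).conj_mem y hy _, rfl⟩

theorem le_coreIn {M Y N : Subgroup G} (hM : N ≤ M) (hY : N ≤ Y)
    (hn : ∀ m ∈ M, ∀ x ∈ N, m * x * m⁻¹ ∈ N) : N ≤ coreIn M Y := by
  have hnorm : (N.subgroupOf M).Normal := ⟨fun x hx m => hn m.val m.2 x.val hx⟩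
  intro x hx
  exact ⟨⟨x, hM hx⟩, (Subgroup.normal_le_normalCore (H := Y.subgroupOf M)).2 (fun z hz => hY hz)
    (show (⟨x, hM hx⟩ : ↥M) ∈ N.subgroupOf M from hx), rfl⟩

theorem map_coreIn_le (e : G ≃* G) (M Y : Subgroup G) :
    (coreIn M Y).map e.toMonoidHom ≤ coreIn (M.map e.toMonoidHom) (Y.map e.toMonoidHom) := by
  refine le_coreIn (Subgroup.map_mono (coreIn_le_left M Y)) (Subgroup.map_mono (coreIn_le_right M Y)) ?_
  rintro _ ⟨m, hm, rfl⟩ _ ⟨x, hx, rfl⟩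
  exact ⟨m * x * m⁻¹, coreIn_conj_mem hm hx, by simp⟩

theorem map_coreIn_of_invol (e : G ≃* G) (he : ∀ x, e (e x) = x) (M Y : Subgroup G) :
    (coreIn M Y).map e.toMonoidHom = coreIn (M.map e.toMonoidHom) (Y.map e.toMonoidHom) := by
  have hh : ∀ H : Subgroup G, (H.map e.toMonoidHom).map e.toMonoidHom = H := fun H => by
    ext x
    refine ⟨?_, fun hx => ⟨e x, ⟨x, hx, rfl⟩, he x⟩⟩
    rintro ⟨_, ⟨y, hy, rfl⟩, rfl⟩
    rw [MulEquiv.coe_toMonoidHom, he]; exact hy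
  refine le_antisymm (map_coreIn_le e M Y) ?_
  have := Subgroup.map_mono (f := e.toMonoidHom) (map_coreIn_le e (M.map e.toMonoidHom) (Y.map e.toMonoidHom))
  rwa [hh, hh, hh] at this

/-- The two sequences of iterated cores. -/
noncomputable def coreSeq (M₁ M₂ : Subgroup G) : ℕ → Subgroup G × Subgroup G
  | 0 => (M₁, M₂)
  | n + 1 => (coreIn M₁ ((coreSeq M₁ M₂ n).1 ⊓ (coreSeq M₁ M₂ n).2),
      coreIn M₂ ((coreSeq M₁ M₂ n).1 ⊓ (coreSeq M₁ M₂ n).2))

end CfsgLib.ChevCores
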