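import Cfsg.Agent.Lib.Known.ChevCores.Example
import Cfsg.Agent.Lib.Known.ChevCores.Cert

/-!
# The branch node of `E₈` over the field of two elements
-/

set_option autoImplicit false
set_option maxRecDepth 20000

namespace CfsgLib.ChevCores.E8

open Cfsg.Lie CfsgLib.Chev

theorem diag_eq_bot {D : ChevalleyDatum} {co : ℕ → ℕ → ℤ} (hF : Facts D co) {K : Type} [Field K]
    (hu : ∀ u : Kˣ, u = 1) : D.diagonalSubgroup K = ⊥ := by
  rw [eq_bot_iff]
  intro x hx
  obtain ⟨c, rfl⟩ := hF.mem_diagonal_iff.1 hx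
  rw [show c = fun _ => (1 : Kˣ) from funext fun i => hu _, hF.hT_one]
  exact Subgroup.one_mem _

theorem sW_val {D : ChevalleyDatum} {co : ℕ → ℕ → ℤ} (hF : Facts D co) (v : List (Fin D.rank))
    (r : Fin D.nroots) :
    (sW D v r).val = v.foldr (fun j x => D.reflectRoot j.val x) r.val := by
  induction v with
  | nil => rw [sW_nil, Equiv.Perm.one_apply, List.foldr_nil]
  | cons j v ih => rw [sW_cons, Equiv.Perm.mul_apply, hF.sP_val, ih, List.foldr_cons]

theorem mk_hyp {D : ChevalleyDatum} {co : ℕ → ℕ → ℤ} {K : Type} [Field K] (hF : Facts D co)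
    (hC : CommF.{0} D) (hu : ∀ u : Kˣ, u = 1) {n : ℕ} (hn : n < D.rank)
    (W : List (List (Fin D.rank))) (hW : ∀ v ∈ W, ∀ j ∈ v, j.val ≠ n)
    (htop : ∀ r < D.nroots, co r n < 7) (hroot : ∃ r < D.nroots, 6 ≤ co r n)
    (hlow : ∀ r < D.nroots, 2 ≤ co r n → co r n - 1 ≤ co (D.reflectRoot n r) n)
    (hdesc : ∀ r < D.nroots, 1 ≤ co r n →
      co (D.reflectRoot n r) n < (if co r n = 1 then 0 else co r n) ∨
        ∃ j < D.rank, j ≠ n ∧ D.reflectRoot j r < r)
    (hmove : ∀ i < D.rank, i ≠ n → ∀ p < D.nroots / 2, co p n = 0 → ∃ v ∈ W,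
      co (D.reflectRoot n (v.foldr (fun j x => D.reflectRoot j.val x) p)) n <
      co (D.reflectRoot n (v.foldr (fun j x => D.reflectRoot j.val x) (D.simple i))) n) :
    Graded.Hyp D co K ⟨n, hn⟩ where
  facts := hF
  comm := hC
  torus := diag_eq_bot hF hu
  top_lt := htop
  top_root := hroot
  low r h := by rw [hF.sP_val]; exact hlow r.val r.isLt h
  desc r h := by
    rw [hF.sP_val]
    rcases hdesc r.val r.isLt h with h' | ⟨j, hj, hne, hlt⟩
    · exact Or.inl h'
    · exact Or.inr ⟨⟨j, hj⟩, fun e => hne (congrArg Fin.val e), by rw [hF.sP_val]; exact hlt⟩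
  move i hi p hp hp0 := by
    obtain ⟨v, hv, hlt⟩ := hmove i.val i.isLt (fun e => hi (Fin.ext e)) p.val hp hp0
    refine ⟨v, fun j hj e => hW v hv j hj (congrArg Fin.val e), ?_⟩
    rw [sW_cons, Equiv.Perm.mul_apply, Equiv.Perm.mul_apply, hF.sP_val, hF.sP_val, sW_val hF,
      sW_val hF]
    exact hlt

theorem units_zmod_two : ∀ u : (ZMod 2)ˣ, u = 1 := by decide

theorem hyp : Graded.Hyp chevE8 DataE8.co (ZMod 2) ⟨3, rank_gt⟩ :=
  mk_hyp DataE8.facts good_E8.comm units_zmod_two rank_gt words words_ne top_lt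
    ⟨239, top_root.1, top_root.2⟩ low desc move

end CfsgLib.ChevCores.E8
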