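import Cfsg.Agent.Lib.Known.ChevCores.Parabolic
import Cfsg.Agent.Lib.Known.ChevCores.Core

/-!
# Iterated cores of two conjugate maximal parabolic subgroups

For a node `c` whose coefficient on the roots reaches `6`, with trivial torus, `P` the maximal
parabolic subgroup of `c` and `n` the reflection element of `c`, the `i`-th iterated core is
generated by the root elements of level at least `i + 1`.
-/

set_option autoImplicit false
set_option maxHeartbeats 400000

namespace CfsgLib.ChevCores.Graded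

open Cfsg.Lie CfsgLib.Chev

variable {D : ChevalleyDatum} {co : ℕ → ℕ → ℤ} {K : Type} [Field K] {c : Fin D.rank}

/-- The hypotheses on the roots graded by the node `c`. -/
structure Hyp (D : ChevalleyDatum) (co : ℕ → ℕ → ℤ) (K : Type) [Field K] (c : Fin D.rank) : Prop where
  facts : Facts D co
  comm : CommF.{0} D
  torus : D.diagonalSubgroup K = ⊥
  top_lt : ∀ r < D.nroots, co r c.val < 7
  top_root : ∃ r < D.nroots, 6 ≤ co r c.val
  low : ∀ r : Fin D.nroots, 2 ≤ co r.val c.val → co r.val c.val - 1 ≤ co (sP D c r).val c.val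
  desc : ∀ r : Fin D.nroots, 1 ≤ co r.val c.val →
    co (sP D c r).val c.val < (if co r.val c.val = 1 then 0 else co r.val c.val) ∨
      ∃ j : Fin D.rank, j ≠ c ∧ (sP D j r).val < r.val
  move : ∀ i : Fin D.rank, i ≠ c → ∀ p : Fin D.nroots, p.val < D.nroots / 2 → co p.val c.val = 0 →
      ∃ v : List (Fin D.rank), (∀ j ∈ v, j ≠ c) ∧ co (sW D (c :: v) p).val c.val <
        co (sW D (c :: v) ⟨D.simple i.val, facts.simple_lt' i.isLt⟩).val c.val

theorem Hyp.isWt (h : Hyp D co K c) : IsWeight D (fun r => co r c.val) :=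
  h.facts.isWeight_co c.isLt

local notation "L" => (fun r => co r (Fin.val c))

variable (hH : Hyp D co K c)
include hH


theorem lev_le_group (k : ℕ) : Lev D K L k ≤ D.group K := by
  rw [hH.facts.group_eq]
  exact rootClosure_mono fun _ _ _ => trivial

/-- The element exchanging the two parabolic subgroups. -/
noncomputable def gel : ↥(D.group K) :=
  ⟨nS D K c, hH.facts.monomial_le_group (hH.facts.nS_mem c)⟩

theorem gel_sq : gel hH * gel hH = 1 := by
  have h := hH.facts.nS_sq (F := K) c (e := 1) (Or.inl rfl)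
  rw [hH.torus, Subgroup.mem_bot] at h
  apply Subtype.ext
  show nS D K c * nS D K c = 1
  simpa [nS] using h

/-- Conjugation by `gel`. -/
noncomputable def φ : ↥(D.group K) ≃* ↥(D.group K) := MulAut.conj (gel hH)

theorem φ_apply (x : ↥(D.group K)) : φ hH x = gel hH * x * (gel hH)⁻¹ := MulAut.conj_apply _ _

theorem φ_φ (x : ↥(D.group K)) : φ hH (φ hH x) = x := by
  rw [φ_apply, φ_apply]
  calc gel hH * (gel hH * x * (gel hH)⁻¹) * (gel hH)⁻¹
      = (gel hH * gel hH) * x * (gel hH * gel hH)⁻¹ := by group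
    _ = x := by rw [gel_sq, one_mul, inv_one, mul_one]

theorem mem_map_φ {H : Subgroup ↥(D.group K)} {x : ↥(D.group K)} :
    x ∈ H.map (φ hH).toMonoidHom ↔ φ hH x ∈ H := by
  constructor
  · rintro ⟨y, hy, rfl⟩
    rw [MulEquiv.coe_toMonoidHom, φ_φ]; exact hy
  · exact fun h => ⟨φ hH x, h, φ_φ hH x⟩

local notation "V" => (fun k => Subgroup.subgroupOf (Lev D K L k) (ChevalleyDatum.group D K))

theorem mem_map_V {k : ℕ} {x : ↥(D.group K)} : x ∈ (V k).map (φ hH).toMonoidHom ↔
    nS D K c * (x : GL D.Idx K) * (nS D K c)⁻¹ ∈ Lev D K L k := by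
  rw [mem_map_φ, φ_apply]
  rfl

theorem conj_mem_V {k : ℕ} {m x : ↥(D.group K)} (hm : m ∈ V 0) (hx : x ∈ V k) :
    m * x * m⁻¹ ∈ V k :=
  (Subgroup.mem_normalizer_iff.1 (lev_normal hH.facts hH.comm hH.isWt k hm) x.val).1 hx

omit hH in
theorem V_anti {k m : ℕ} (h : k ≤ m) : V m ≤ V k := fun _ hx => lev_anti h hx

theorem V_seven : V 7 = ⊥ := by
  show (Lev D K L 7).subgroupOf (D.group K) = ⊥
  rw [lev_eq_bot (fun r hr => by exact_mod_cast hH.top_lt r hr), Subgroup.bot_subgroupOf]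

/-- `n` moves level `k'` into level `k`. -/
theorem V_le_map {k k' : ℕ} (hk : (k = 0 ∧ k' = 2) ∨ (1 ≤ k ∧ k' = k + 1)) :
    V k' ≤ (V k).map (φ hH).toMonoidHom := by
  intro x hx
  rw [mem_map_V]
  refine hH.facts.conj_rootClosure (hH.facts.permAct_nS c) (Q := fun r => (k : ℤ) ≤ co r c.val)
    (fun s hs => ?_) hx
  show (k : ℤ) ≤ co (sP D c s).val c.val
  change (k' : ℤ) ≤ co s.val c.val at hs
  have := hH.low s
  omega

/-- The core of a level met with its conjugate is the next level. -/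
theorem coreIn_V {k k' : ℕ} (hk : (k = 0 ∧ k' = 2) ∨ (2 ≤ k ∧ k' = k + 1)) :
    coreIn (V 0) (V k ⊓ (V k).map (φ hH).toMonoidHom) = V k' := by
  have hk' : k ≤ k' := by omega
  refine le_antisymm ?_ (le_coreIn (V_anti (Nat.zero_le _))
    (le_inf (V_anti hk') (V_le_map hH (by omega))) fun m hm x hx => conj_mem_V hH hm hx)
  set C := coreIn (V 0) (V k ⊓ (V k).map (φ hH).toMonoidHom)
  have hC : C ≤ V k ⊓ (V k).map (φ hH).toMonoidHom := coreIn_le_right _ _
  set N : Subgroup (GL D.Idx K) := C.map (D.group K).subtype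
  have hNk : N ≤ Lev D K L k := by
    rintro _ ⟨x, hx, rfl⟩; exact (hC hx).1
  have hnorm : Lev D K L 0 ≤ Subgroup.normalizer (N : Set (GL D.Idx K)) := by
    intro m hm
    obtain ⟨m', hm', hval⟩ : ∃ m' : ↥(D.group K), m' ∈ V 0 ∧ (D.group K).subtype m' = m :=
      ⟨⟨m, lev_le_group hH 0 hm⟩, Subgroup.mem_subgroupOf.2 hm, rfl⟩
    subst hval
    refine normalizer_of_conj (fun x hx => ?_) (fun x hx => ?_)
    · obtain ⟨y, hy, rfl⟩ := hx
      refine ⟨m' * y * m'⁻¹, ?_, ?_⟩
      · exact coreIn_conj_mem hm' hy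
      · rw [map_mul, map_mul, map_inv]
    · obtain ⟨y, hy, rfl⟩ := hx
      refine ⟨m'⁻¹ * y * m', ?_, ?_⟩
      · have h2 := coreIn_conj_mem (Subgroup.inv_mem _ hm') hy
        rwa [inv_inv] at h2
      · rw [map_mul, map_mul, map_inv]
  have hconj : ∀ x ∈ N, nS D K c * x * (nS D K c)⁻¹ ∈ Lev D K L k := by
    rintro _ ⟨x, hx, rfl⟩; exact (mem_map_V hH).1 (hC hx).2
  have hstep : ∀ j m : ℕ, (j = 1 ∧ m = 0) ∨ (2 ≤ j ∧ m = j) →
      N ≤ Lev D K L j → (∀ x ∈ N, nS D K c * x * (nS D K c)⁻¹ ∈ Lev D K L m) →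
      N ≤ Lev D K L (j + 1) := by
    intro j m hjm h1 h2
    refine le_lev_succ hH.facts hH.comm hH.torus c (by omega) h1 hnorm h2 fun r hr => ?_
    rcases hH.desc r (by omega) with h | h
    · left
      split_ifs at h with h' <;> omega
    · exact Or.inr h
  have hfin : N ≤ Lev D K L k' := by
    rcases hk with ⟨rfl, rfl⟩ | ⟨hk2, rfl⟩
    · exact hstep 1 0 (Or.inl ⟨rfl, rfl⟩)
        (le_lev_one hH.facts hH.comm hH.torus c hNk hnorm hconj hH.move) hconj
    · exact hstep k k (Or.inr ⟨hk2, rfl⟩) hNk hconj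
  intro x hx
  exact hfin ⟨x, hx, rfl⟩

theorem exists_down : ∃ t : K, t ≠ 0 ∧ ∃ r < D.nroots, co r c.val < 0 ∧
    ∃ x ∈ Lev D K L 0, nS D K c * x * (nS D K c)⁻¹ = xU D r t := by
  obtain ⟨t, ht, h, -⟩ := hH.facts.permAct_nS (F := K) c (hH.facts.simpleFin c)
  have hlev : co (hH.facts.simpleFin c).val c.val = 1 := by
    show co (D.simple c.val) c.val = 1
    rw [hH.facts.co_simple c.val c.isLt c.val c.isLt, if_pos rfl]
  refine ⟨t, ht, _, (sP D c (hH.facts.simpleFin c)).isLt, ?_, _,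
    xU_mem_lev hH.facts (hH.facts.simpleFin c).isLt (by rw [Nat.cast_zero, hlev]; norm_num) 1,
    by rw [h 1, mul_one]⟩
  rw [hH.facts.sP_simple]
  show co (D.neg (hH.facts.simpleFin c).val) c.val < 0
  rw [hH.facts.co_neg _ (hH.facts.simpleFin c).isLt c.val c.isLt, hlev]
  norm_num

theorem gel_not_mem : gel hH ∉ V 0 := by
  intro hg
  obtain ⟨t, ht, r, hr, hneg, x, hx, e⟩ := exists_down hH
  have h2 := (Subgroup.mem_normalizer_iff.1 (lev_normal hH.facts hH.comm hH.isWt 0
    (show nS D K c ∈ Lev D K L 0 from hg)) _).1 hx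
  rw [e] at h2
  have := level_of_mem hH.facts hH.isWt hr ht h2
  rw [Nat.cast_zero] at this
  omega

theorem V_ne_map : V 0 ≠ (V 0).map (φ hH).toMonoidHom := by
  intro e
  obtain ⟨t, ht, r, hr, hneg, x, hx, e'⟩ := exists_down hH
  have h2 : (⟨x, lev_le_group hH 0 hx⟩ : ↥(D.group K)) ∈ (V 0).map (φ hH).toMonoidHom :=
    e ▸ (show (⟨x, lev_le_group hH 0 hx⟩ : ↥(D.group K)) ∈ V 0 from hx)
  rw [mem_map_V, e'] at h2
  have := level_of_mem hH.facts hH.isWt hr ht h2
  rw [Nat.cast_zero] at this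
  omega

theorem borel_le_lev : D.borelSubgroup K ≤ Lev D K L 0 := by
  rw [hH.facts.borel_eq, hH.torus, sup_bot_eq]
  exact pos_le_lev_zero hH.facts c

theorem isCoatom_V : IsCoatom (V 0) := by
  set P := hH.facts.bnPair hH.comm (K := K)
  refine ⟨fun e => gel_not_mem hH (e ▸ Subgroup.mem_top _), fun M hM => ?_⟩
  have hBV : P.B ≤ V 0 := fun x hx => borel_le_lev hH hx
  have hS : ∀ s ∈ P.S, s ≠ gel hH → s ∈ V 0 := by
    rintro s ⟨i, hi, hs⟩ hne
    rw [← hH.facts.nU_val (hH.facts.simple_lt' hi), Units.val_inj] at hs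
    show (s : GL D.Idx K) ∈ Lev D K L 0
    have := nW_mem_lev_zero (K := K) hH.facts hH.torus c (l := [⟨i, hi⟩]) (by
      intro j hj e
      rw [List.mem_singleton] at hj
      refine hne (Subtype.ext ?_)
      rw [hs]
      show nS D K ⟨i, hi⟩ = nS D K c
      rw [← hj, e])
    rw [nW_cons, nW_nil, mul_one] at this
    rw [hs]
    exact this
  by_cases hg : gel hH ∈ M
  · refine top_le_iff.1 ?_
    rw [← BN.parabolic_S (P := P)]
    refine sup_le (hBV.trans hM.le) ((Subgroup.closure_le _).2 fun s hs => ?_)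
    by_cases h : s = gel hH
    · rw [h]; exact hg
    · exact hM.le (hS s hs h)
  · exfalso
    refine not_le_of_gt hM ?_
    rw [BN.eq_parabolic (P := P) (hBV.trans hM.le)]
    refine sup_le hBV ((Subgroup.closure_le _).2 fun s ⟨hs, hsM⟩ => hS s hs ?_)
    rintro rfl; exact hg hsM

theorem example_exists [Finite K] :
    ∃ (G : Type) (_ : Group G) (_ : Finite G) (M₁ M₂ : Subgroup G) (g : G) (A B : ℕ → Subgroup G),
      IsCoatom M₁ ∧ M₂ = M₁.map (MulAut.conj g).toMonoidHom ∧ M₁ ≠ M₂ ∧ M₁.normalCore = ⊥ ∧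
      A 0 = M₁ ∧ B 0 = M₂ ∧
      (∀ i, A (i + 1) = ((A i ⊓ B i).subgroupOf M₁).normalCore.map M₁.subtype) ∧
      (∀ i, B (i + 1) = ((A i ⊓ B i).subgroupOf M₂).normalCore.map M₂.subtype) ∧
      A 6 = ⊥ ∧ A 5 ≠ ⊥ := by
  set S := coreSeq (V 0) ((V 0).map (φ hH).toMonoidHom)
  have hB : ∀ i, (S i).2 = (S i).1.map (φ hH).toMonoidHom := by
    intro i
    induction i with
    | zero => rfl
    | succ i ih =>
      show coreIn _ _ = (coreIn _ _).map _
      rw [map_coreIn_of_invol (φ hH) (φ_φ hH), Subgroup.map_inf _ _ _ (φ hH).injective, ← ih]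
      rw [show (S i).2.map (φ hH).toMonoidHom = (S i).1 by
        rw [ih]
        ext x
        rw [mem_map_φ, mem_map_φ, φ_φ], inf_comm (S i).2]
  let lev : ℕ → ℕ := fun i => if i = 0 then 0 else i + 1
  have hA : ∀ i, i ≤ 6 → (S i).1 = V (lev i) := by
    intro i
    induction i with
    | zero => intro _; rfl
    | succ i ih =>
      intro hi
      show coreIn _ _ = _
      rw [hB, ih (by omega)]
      refine coreIn_V hH ?_
      rcases Nat.eq_zero_or_pos i with rfl | hp
      · exact Or.inl ⟨rfl, rfl⟩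
      · refine Or.inr ?_
        simp only [lev, if_neg (show ¬ i = 0 by omega), if_neg (show ¬ i + 1 = 0 by omega)]
        exact ⟨by omega, trivial⟩
  have hfin : Finite ↥(D.group K) := inferInstance
  refine ⟨↥(D.group K), inferInstance, hfin, V 0, (V 0).map (φ hH).toMonoidHom, gel hH,
    fun i => (S i).1, fun i => (S i).2, isCoatom_V hH, rfl, V_ne_map hH, ?_, rfl, rfl,
    fun i => rfl, fun i => rfl, ?_, ?_⟩
  · rw [eq_bot_iff]
    have hsub : ∀ i, (V 0).normalCore ≤ (S i).1 ⊓ (S i).2 := by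
      intro i
      have h0 : ∀ x ∈ (V 0).normalCore, ∀ m, m * x * m⁻¹ ∈ (V 0).normalCore :=
        fun x hx m => (Subgroup.normalCore_normal _).conj_mem x hx m
      have h1 : (V 0).normalCore ≤ V 0 := Subgroup.normalCore_le _
      have h2 : (V 0).normalCore ≤ (V 0).map (φ hH).toMonoidHom := fun x hx =>
        (mem_map_φ hH).2 (h1 (by rw [φ_apply]; exact h0 x hx _))
      induction i with
      | zero => exact le_inf h1 h2
      | succ i ih =>
        exact le_inf (le_coreIn h1 ih fun m _ x hx => h0 x hx m)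
          (le_coreIn h2 ih fun m _ x hx => h0 x hx m)
    refine (hsub 6).trans (inf_le_left.trans ?_)
    rw [hA 6 le_rfl]
    exact (V_seven hH).le
  · show (S 6).1 = ⊥
    rw [hA 6 le_rfl]
    exact V_seven hH
  · intro e
    change (S 5).1 = ⊥ at e
    rw [hA 5 (by omega), Subgroup.eq_bot_iff_forall] at e
    obtain ⟨r, hr, h6⟩ := hH.top_root
    have hx : xU D r (1 : K) ∈ Lev D K L (lev 5) := xU_mem_lev hH.facts hr h6 1
    have := congrArg Subtype.val (e ⟨_, lev_le_group hH _ hx⟩ hx)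
    exact one_ne_zero (hH.facts.xU_eq_one (F := K) hr this)

end CfsgLib.ChevCores.Graded
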