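import Cfsg.Agent.Lib.Known.ChevRadicalCentralizer

/-!
# The level filtration of the radical of a maximal parabolic subgroup

For a weight `w` on the roots, `Lev D K w k` is generated by the root elements of level at least `k`.
An element of level at least `k ≥ 1` lies in level `k + 1` as soon as the entries of its matrix
attached to the roots of level exactly `k` vanish.
-/

set_option autoImplicit false

namespace CfsgLib.ChevCores

open Cfsg.Lie CfsgLib.Chev

universe v

variable {D : ChevalleyDatum} {co : ℕ → ℕ → ℤ} {K : Type v} [Field K]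

/-- The subgroup generated by the root elements of level at least `k`. -/
noncomputable def Lev (D : ChevalleyDatum) (K : Type v) [Field K] (w : ℕ → ℤ) (k : ℕ) :
    Subgroup (GL D.Idx K) :=
  rootClosure D K (fun r => (k : ℤ) ≤ w r)

theorem lev_anti {w : ℕ → ℤ} {k m : ℕ} (h : k ≤ m) : Lev D K w m ≤ Lev D K w k :=
  rootClosure_mono fun _ _ hr => le_trans (Int.ofNat_le.2 h) hr

theorem lev_eq_bot {w : ℕ → ℤ} {k : ℕ} (h : ∀ r < D.nroots, w r < k) : Lev D K w k = ⊥ :=
  (Subgroup.closure_eq_bot_iff).2 fun _ ⟨r, _, hr, hk, _⟩ => absurd (h r hr) (not_lt.2 hk)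

variable (hF : Facts D co)
include hF

theorem xU_mem_lev {w : ℕ → ℤ} {k r : ℕ} (hr : r < D.nroots) (h : (k : ℤ) ≤ w r) (t : K) :
    xU D r t ∈ Lev D K w k := by
  have _ := hF
  exact xU_mem_rootClosure hr (P := fun r => (k : ℤ) ≤ w r) h t

theorem lev_ut {w : ℕ → ℤ} (hw : IsWeight D w) {k : ℕ} {g : GL D.Idx K}
    (hg : g ∈ Lev D K w k) : UT (wt D w) k (g : Matrix D.Idx D.Idx K) := by
  refine ut_closure (Int.natCast_nonneg k) ?_ hg
  rintro x ⟨r, t, hr, hk, rfl⟩
  have h0 : 0 ≤ w r := le_trans (Int.natCast_nonneg k) hk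
  rw [hF.xU_inv hr]
  exact ⟨hF.xU_ut_gen hw hr h0 hk t, hF.xU_ut_gen hw hr h0 hk (-t)⟩

theorem level_of_mem {w : ℕ → ℤ} (hw : IsWeight D w) {k r : ℕ} (hr : r < D.nroots) {t : K}
    (ht : t ≠ 0) (h : xU D r t ∈ Lev D K w k) : (k : ℤ) ≤ w r := by
  by_contra hc
  exact ht (hF.xU_eq_zero_gen hw hr ((lev_ut hF hw h).mono (by omega)))

theorem conj_mem_lev {w w' : ℕ → ℤ} {k : ℕ} {n x : GL D.Idx K} {σ : Equiv.Perm (Fin D.nroots)}
    (hn : n ∈ D.monomialSubgroup K) (hσ : PermAct n σ)
    (hww : ∀ s : Fin D.nroots, w' s.val = w (σ s).val) (hx : n * x * n⁻¹ ∈ Lev D K w k) :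
    x ∈ Lev D K w' k := by
  have h := hF.conj_rootClosure (hF.permAct_inv hn hσ) (Q := fun r => (k : ℤ) ≤ w' r)
    (fun s hs => by
      show (k : ℤ) ≤ w' (σ⁻¹ s).val
      rw [hww, ← Equiv.Perm.mul_apply, mul_inv_cancel, Equiv.Perm.one_apply]; exact hs) hx
  rwa [show n⁻¹ * (n * x * n⁻¹) * n⁻¹⁻¹ = x by group] at h

theorem col_of_lev {w : ℕ → ℤ} (hw : IsWeight D w) {k : ℕ} {g : GL D.Idx K}
    (hg : g ∈ Lev D K w k) (q : Fin D.nroots) (hq : w q.val < k) (i : Fin D.rank) :
    (g : Matrix D.Idx D.Idx K) (Sum.inl i) (Sum.inr (hF.negFin q)) = 0 := by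
  by_contra hc
  have := lev_ut hF hw hg (Sum.inl i) (Sum.inr (hF.negFin q))
    (by simpa [Matrix.sub_apply, Matrix.one_apply] using hc)
  simp only [wt, Sum.elim_inl, Sum.elim_inr] at this
  rw [show (hF.negFin q).val = D.neg q.val from rfl, hw.neg q.val q.isLt] at this
  omega

theorem pos_of_level {w : ℕ → ℤ} (hw : IsWeight D w)
    (h0 : ∀ r < D.nroots, D.nroots / 2 ≤ r → 0 ≤ w r) {r : ℕ} (hr : r < D.nroots) (h : 0 < w r) :
    D.nroots / 2 ≤ r := by
  by_contra hc
  have := h0 _ (hF.neg_lt hr) ((hF.neg_lt_half hr).2 (by omega))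
  rw [hw.neg r hr] at this
  omega

variable (hC : CommF.{v} D)
include hC

theorem lev_normal {w : ℕ → ℤ} (hw : IsWeight D w) (k : ℕ) :
    Lev D K w 0 ≤ Subgroup.normalizer (Lev D K w k : Set (GL D.Idx K)) := by
  rcases Nat.eq_zero_or_pos k with rfl | hk
  · exact Subgroup.le_normalizer
  refine hF.le_normalizer_rootClosure hC fun i hi hiw j hj hjw => ⟨?_, fun _ c hc => ?_⟩
  · rintro rfl
    rw [hw.neg i hi] at hjw
    omega
  · obtain ⟨-, h1, h2, h⟩ := hF.commTerms_wt hw hi hj hc
    rw [nsmul_eq_mul, nsmul_eq_mul] at h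
    have a1 : (0 : ℤ) ≤ (c.2.2.1 : ℤ) * w i := mul_nonneg (by omega) (by simpa using hiw)
    have a2 := le_mul_of_one_le_left (show 0 ≤ w j by omega)
      (show (1 : ℤ) ≤ (c.2.2.2 : ℤ) by exact_mod_cast h2)
    omega

omit hC

theorem entry_mul {w : ℕ → ℤ} (hw : IsWeight D w) {k : ℕ} (hk : 1 ≤ k) {u v : GL D.Idx K}
    (hu : u ∈ Lev D K w k) (hv : v ∈ Lev D K w k) (q : Fin D.nroots) (hq : w q.val = k)
    (i : Fin D.rank) :
    ((u * v : GL D.Idx K) : Matrix D.Idx D.Idx K) (Sum.inl i) (Sum.inr (hF.negFin q)) =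
      (u : Matrix D.Idx D.Idx K) (Sum.inl i) (Sum.inr (hF.negFin q)) +
      (v : Matrix D.Idx D.Idx K) (Sum.inl i) (Sum.inr (hF.negFin q)) := by
  set a : D.Idx := Sum.inl i
  set b : D.Idx := Sum.inr (hF.negFin q)
  have hab : a ≠ b := Sum.inl_ne_inr
  have hcross : (((u : Matrix D.Idx D.Idx K) - 1) * ((v : Matrix D.Idx D.Idx K) - 1)) a b = 0 := by
    rw [Matrix.mul_apply]
    refine Finset.sum_eq_zero fun x _ => ?_
    by_contra hc
    have h1 := lev_ut hF hw hu a x (left_ne_zero_of_mul hc)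
    have h2 := lev_ut hF hw hv x b (right_ne_zero_of_mul hc)
    have ea : wt D w a = 0 := rfl
    have eb : wt D w b = -w q.val := hw.neg q.val q.isLt
    omega
  have e : ((u * v : GL D.Idx K) : Matrix D.Idx D.Idx K) = 1 + ((u : Matrix D.Idx D.Idx K) - 1) +
      ((v : Matrix D.Idx D.Idx K) - 1) +
      ((u : Matrix D.Idx D.Idx K) - 1) * ((v : Matrix D.Idx D.Idx K) - 1) := by
    rw [Units.val_mul]; noncomm_ring
  rw [e, Matrix.add_apply, Matrix.add_apply, Matrix.add_apply, hcross]
  simp [Matrix.sub_apply, Matrix.one_apply, hab]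

theorem entry_xU {r : ℕ} (hr : r < D.nroots) (t : K) (q : Fin D.nroots) (i : Fin D.rank) :
    ((xU D r t : GL D.Idx K) : Matrix D.Idx D.Idx K) (Sum.inl i) (Sum.inr (hF.negFin q)) =
      if q.val = r then t * (cor D r i.val : K) else 0 := by
  have hz : ∀ k : ℕ, divPow D r (k + 2) (Sum.inl i) (Sum.inr (hF.negFin q)) = 0 :=
    fun k => divPow_ge_two_inl_row _ _ _ _
  have hiff : (hF.negFin q).val = D.neg r ↔ q.val = r := by
    refine ⟨fun e => ?_, fun e => by rw [← e]; rfl⟩
    rw [← hF.neg_neg q.isLt, ← hF.neg_neg hr]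
    exact congrArg D.neg e
  rw [hF.xU_val' hr]
  simp only [xR, Finset.sum_range_succ, Finset.sum_range_zero, zero_add,
    Matrix.add_apply, Matrix.smul_apply]
  by_cases hq : q.val = r
  · simp [hz 0, divPow, adRoot_inl_inr, hiff.2 hq, hq]
  · simp [hz 0, divPow, adRoot_inl_inr, mt hiff.1 hq, hq]

include hC

/-- Elements of level `k` with vanishing entries at the roots of level `k` have level `k + 1`. -/
theorem lev_clear {w : ℕ → ℤ} (hw : IsWeight D w) {k : ℕ} (hk : 1 ≤ k) {g : GL D.Idx K}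
    (hg : g ∈ Lev D K w k)
    (hcol : ∀ q : Fin D.nroots, w q.val = k → ∀ i : Fin D.rank,
      (g : Matrix D.Idx D.Idx K) (Sum.inl i) (Sum.inr (hF.negFin q)) = 0) :
    g ∈ Lev D K w (k + 1) := by
  classical
  let W : Finset (Fin D.nroots) → Subgroup (GL D.Idx K) := fun S =>
    rootClosure D K (fun r => ((k + 1 : ℕ) : ℤ) ≤ w r ∨ ∃ h : r < D.nroots, (⟨r, h⟩ : Fin D.nroots) ∈ S)
  suffices key : ∀ S : Finset (Fin D.nroots), (∀ q ∈ S, w q.val = k) → ∀ u ∈ W S,
      (∀ q ∈ S, ∀ i : Fin D.rank,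
        (u : Matrix D.Idx D.Idx K) (Sum.inl i) (Sum.inr (hF.negFin q)) = 0) →
      u ∈ Lev D K w (k + 1) by
    refine key (Finset.univ.filter fun q => w q.val = k) (fun q hq => (Finset.mem_filter.1 hq).2)
      g (rootClosure_mono (fun r hr hP => ?_) hg) (fun q hq => hcol q (Finset.mem_filter.1 hq).2)
    rcases lt_or_eq_of_le hP with h | h
    · left; push_cast; omega
    · exact Or.inr ⟨hr, Finset.mem_filter.2 ⟨Finset.mem_univ _, h.symm⟩⟩
  intro S
  induction S using Finset.induction_on with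
  | empty =>
    intro _ u hu _
    refine rootClosure_mono (fun r hr hP => ?_) hu
    rcases hP with h | ⟨h, h'⟩
    · exact h
    · exact absurd h' (Finset.notMem_empty _)
  | insert q S hqS ih =>
    intro hS u hu hz
    have hq : w q.val = k := hS q (Finset.mem_insert_self _ _)
    have hWk : W S ≤ Lev D K w k := rootClosure_mono fun r hr hP => by
      rcases hP with h | ⟨h, h'⟩
      · push_cast at h; omega
      · exact le_of_eq (hS _ (Finset.mem_insert_of_mem h')).symm
    have hnorm : ∀ t : K, ∀ x ∈ W S, xU D q.val t * x * (xU D q.val t)⁻¹ ∈ W S := by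
      intro t x hx
      have hN : rootClosure D K (· = q.val) ≤
          Subgroup.normalizer (W S : Set (GL D.Idx K)) := by
        refine hF.le_normalizer_rootClosure hC fun i hi hiq j hj hjP => ?_
        have hjk : (k : ℤ) ≤ w j := by
          rcases hjP with h | ⟨h, h'⟩
          · push_cast at h; omega
          · exact le_of_eq (hS _ (Finset.mem_insert_of_mem h')).symm
        subst hiq
        refine ⟨?_, fun _ c hc => Or.inl ?_⟩
        · rintro rfl
          rw [hw.neg _ hi] at hjk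
          omega
        · obtain ⟨-, h1, h2, h⟩ := hF.commTerms_wt hw hi hj hc
          rw [nsmul_eq_mul, nsmul_eq_mul, hq] at h
          have a1 := le_mul_of_one_le_left (show (0 : ℤ) ≤ (k : ℤ) by omega)
            (show (1 : ℤ) ≤ (c.2.2.1 : ℤ) by exact_mod_cast h1)
          have a2 := le_mul_of_one_le_left (show (0 : ℤ) ≤ w j by omega)
            (show (1 : ℤ) ≤ (c.2.2.2 : ℤ) by exact_mod_cast h2)
          push_cast
          omega
      exact (Subgroup.mem_normalizer_iff.1
        (hN (xU_mem_rootClosure q.isLt (P := (· = q.val)) rfl t)) x).1 hx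
    obtain ⟨t, u', hu', rfl⟩ : ∃ t : K, ∃ u' ∈ W S, u = xU D q.val t * u' := by
      clear hz
      induction hu using Subgroup.closure_induction with
      | mem x hx =>
        obtain ⟨r, a, hr, hP, rfl⟩ := hx
        by_cases hrq : r = q.val
        · subst hrq; exact ⟨a, 1, Subgroup.one_mem _, (mul_one _).symm⟩
        · refine ⟨0, _, xU_mem_rootClosure hr ?_ a, by rw [hF.xU_zero q.isLt, one_mul]⟩
          rcases hP with h | ⟨h, h'⟩
          · exact Or.inl h
          · rcases Finset.mem_insert.1 h' with e | e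
            · exact absurd (congrArg Fin.val e) hrq
            · exact Or.inr ⟨h, e⟩
      | one => exact ⟨0, 1, Subgroup.one_mem _, by rw [hF.xU_zero q.isLt, one_mul]⟩
      | mul x y _ _ hx hy =>
        obtain ⟨a, x', hx', rfl⟩ := hx
        obtain ⟨b, y', hy', rfl⟩ := hy
        refine ⟨a + b, xU D q.val (-b) * x' * (xU D q.val (-b))⁻¹ * y',
          Subgroup.mul_mem _ (hnorm _ _ hx') hy', ?_⟩
        rw [hF.xU_inv q.isLt, _root_.neg_neg, ← hF.xU_add q.isLt a b,
          show xU D q.val (-b) = (xU D q.val b)⁻¹ from (hF.xU_inv q.isLt b).symm]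
        group
      | inv x _ hx =>
        obtain ⟨a, x', hx', rfl⟩ := hx
        refine ⟨-a, xU D q.val a * x'⁻¹ * (xU D q.val a)⁻¹, hnorm _ _ (Subgroup.inv_mem _ hx'), ?_⟩
        rw [← hF.xU_inv q.isLt]
        group
    have hxk : xU D q.val t ∈ Lev D K w k := xU_mem_lev hF q.isLt hq.ge t
    have hzero : ∀ x ∈ W S, ∀ i : Fin D.rank,
        (x : Matrix D.Idx D.Idx K) (Sum.inl i) (Sum.inr (hF.negFin q)) = 0 := by
      intro x hx i
      induction hx using Subgroup.closure_induction with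
      | mem y hy =>
        obtain ⟨r, a, hr, hP, rfl⟩ := hy
        rw [entry_xU hF hr, if_neg]
        rintro rfl
        rcases hP with h | ⟨h, h'⟩
        · push_cast at h; omega
        · exact hqS h'
      | one => simp
      | mul x y hx' hy' hx hy => rw [entry_mul hF hw hk (hWk hx') (hWk hy') q hq, hx, hy, add_zero]
      | inv x hx' hx =>
        have e := entry_mul hF hw hk (hWk hx') (hWk (Subgroup.inv_mem _ hx')) q hq i
        rw [mul_inv_cancel, hx, zero_add, Units.val_one, Matrix.one_apply, if_neg Sum.inl_ne_inr] at e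
        exact e.symm
    have ht : t = 0 := by
      obtain ⟨i, hi, hne⟩ := hF.exists_cor_ne (F := K) q.isLt
      have e := hz q (Finset.mem_insert_self _ _) ⟨i, hi⟩
      rw [entry_mul hF hw hk hxk (hWk hu') q hq, entry_xU hF q.isLt, if_pos rfl,
        hzero u' hu', add_zero] at e
      exact (mul_eq_zero.1 e).resolve_right hne
    subst ht
    rw [hF.xU_zero q.isLt, one_mul] at hz ⊢
    exact ih (fun r hr => hS r (Finset.mem_insert_of_mem hr)) u' hu'
      (fun r hr => hz r (Finset.mem_insert_of_mem hr))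

end CfsgLib.ChevCores
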