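import Cfsg.Agent.Lib.Known.ChevCores.Level

/-!
# Bounds on subgroups normal in a maximal parabolic subgroup and in a conjugate of it

`c` is a node, `w` the coefficient at `c`, and the torus is trivial. A subgroup normalised by the
parabolic subgroup `Lev w 0` and pushed into level `m` by `n_c` gains levels, given certificates on
the root system.
-/

set_option autoImplicit false

namespace CfsgLib.ChevCores

open Cfsg.Lie CfsgLib.Chev

universe v

variable {D : ChevalleyDatum} {co : ℕ → ℕ → ℤ} {K : Type v} [Field K]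

/-- The coefficient at `c` of the image of a root under a word. -/
noncomputable def wW (D : ChevalleyDatum) (co : ℕ → ℕ → ℤ) (c : ℕ) (l : List (Fin D.rank))
    (r : ℕ) : ℤ :=
  if h : r < D.nroots then co (sW D l ⟨r, h⟩).val c else 0

variable (hF : Facts D co)
include hF

theorem isWeight_wW {c : ℕ} (hc : c < D.rank) (l : List (Fin D.rank)) :
    IsWeight D (wW D co c l) :=
  hF.weight_sW l hc

theorem conj_mem_wW {c : ℕ} {k : ℕ} (l : List (Fin D.rank)) {x : GL D.Idx K}
    (hx : nW D K l * x * (nW D K l)⁻¹ ∈ Lev D K (co · c) k) :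
    x ∈ Lev D K (wW D co c l) k :=
  conj_mem_lev hF (w := fun r => co r c) (hF.nW_mem l) (hF.permAct_nW l) (fun s => dif_pos s.isLt) hx

theorem co_sP_of_ne (c : Fin D.rank) {j : Fin D.rank} (hj : j ≠ c) (r : Fin D.nroots) :
    co (sP D j r).val c.val = co r.val c.val := by
  rw [hF.sP_val, hF.co_refl j.val j.isLt r.val r.isLt c.val c.isLt,
    if_neg (fun e => hj (Fin.ext e)), sub_zero]

theorem co_sW_of_ne (c : Fin D.rank) : ∀ (l : List (Fin D.rank)), (∀ j ∈ l, j ≠ c) →
    ∀ r : Fin D.nroots, co (sW D l r).val c.val = co r.val c.val := by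
  intro l
  induction l with
  | nil => intro _ r; rw [sW_nil, Equiv.Perm.one_apply]
  | cons j l ih =>
    intro h r
    rw [sW_cons, Equiv.Perm.mul_apply, co_sP_of_ne hF c (h j (List.mem_cons_self ..)),
      ih (fun x hx => h x (List.mem_cons_of_mem _ hx))]

theorem inSub_compl_iff (c : Fin D.rank) {r : ℕ} :
    InSub D co {c.val}ᶜ r ↔ co r c.val = 0 := by
  have _ := hF
  refine ⟨fun h => h c.val c.isLt (by simp), fun h j _ hj => ?_⟩
  rw [Set.notMem_compl_iff, Set.mem_singleton_iff] at hj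
  rwa [hj]

theorem pos_le_lev_zero (c : Fin D.rank) :
    rootClosure D K (D.nroots / 2 ≤ ·) ≤ Lev D K (co · c.val) 0 :=
  rootClosure_mono fun r hr hp => by simpa using hF.co_nonneg r hr hp c.val c.isLt

/-- The maximal parabolic subgroup is level `0` when the torus is trivial. -/
theorem parabolic_eq_lev (hT : D.diagonalSubgroup K = ⊥) (c : Fin D.rank) :
    D.parabolicSubgroup K {c.val}ᶜ = Lev D K (co · c.val) 0 := by
  rw [hF.parabolic_eq, hT, bot_sup_eq]
  refine rootClosure_congr fun r hr => ?_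
  rw [inSub_compl_iff hF]
  refine ⟨fun h => ?_, fun h => ?_⟩
  · rcases h with h | h
    · simpa using hF.co_nonneg r hr h c.val c.isLt
    · simp [h]
  · by_cases hp : D.nroots / 2 ≤ r
    · exact Or.inl hp
    · right
      have h1 := hF.co_nonneg _ (hF.neg_lt hr) ((hF.neg_lt_half hr).2 (by omega)) c.val c.isLt
      rw [hF.co_neg r hr c.val c.isLt] at h1
      simp only [Nat.cast_zero] at h
      omega

theorem nW_mem_lev_zero (hT : D.diagonalSubgroup K = ⊥) (c : Fin D.rank) {l : List (Fin D.rank)}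
    (hl : ∀ j ∈ l, j ≠ c) : nW D K l ∈ Lev D K (co · c.val) 0 := by
  rw [← parabolic_eq_lev hF hT c]
  exact Radical.nW_mem_parabolic hF fun j hj => fun e => hl j hj (Fin.ext e)

variable (hC : CommF.{v} D)
include hC

/-- The double coset decomposition of the maximal parabolic subgroup. -/
theorem exists_cell_parabolic (hT : D.diagonalSubgroup K = ⊥) (c : Fin D.rank) {g : GL D.Idx K}
    (hg : g ∈ Lev D K (co · c.val) 0) :
    ∃ b ∈ rootClosure D K (D.nroots / 2 ≤ ·), ∃ l : List (Fin D.rank), (∀ j ∈ l, j ≠ c) ∧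
      ∃ b' ∈ rootClosure D K (D.nroots / 2 ≤ ·), g = b * nW D K l * b' := by
  set P := hF.bnPair hC (K := K)
  set SJ : Set ↥(D.group K) := {s | ∃ j : Fin D.rank, j ≠ c ∧ (s : GL D.Idx K) = nS D K j}
  have hB : D.borelSubgroup K = rootClosure D K (D.nroots / 2 ≤ ·) := by
    rw [hF.borel_eq, hT, sup_bot_eq]
  have hS : SJ ⊆ P.S := fun s ⟨j, _, hs⟩ =>
    ⟨j.val, j.isLt, by rw [hs]; exact hF.nU_val (hF.simple_lt' j.isLt) 1⟩
  have hle : D.parabolicSubgroup K {c.val}ᶜ ≤ (P.parabolic SJ).map (D.group K).subtype := by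
    refine sup_le ?_ ((Subgroup.closure_le _).2 ?_)
    · intro x hx
      exact ⟨⟨x, hF.borel_le_group hx⟩, BN.B_le_parabolic SJ hx, rfl⟩
    · intro x hx
      obtain ⟨j, hj, hjr, rfl⟩ := (hF.parabolic_gen _).1 hx
      exact ⟨⟨_, hF.monomial_le_group (hF.nS_mem ⟨j, hjr⟩)⟩,
        BN.J_subset_parabolic ⟨⟨j, hjr⟩, fun e => hj (congrArg Fin.val e), rfl⟩, rfl⟩
  rw [← parabolic_eq_lev hF hT c] at hg
  obtain ⟨y, hy, rfl⟩ := hle hg
  obtain ⟨l, hl, hcell⟩ := (BN.mem_parabolic_iff hS).1 hy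
  obtain ⟨b, hb, b', hb', rfl⟩ := BN.mem_cell.1 hcell
  have hword : ∀ m : List ↥(D.group K), (∀ x ∈ m, x ∈ SJ) →
      ∃ l' : List (Fin D.rank), (∀ j ∈ l', j ≠ c) ∧ ((m.prod : ↥(D.group K)) : GL D.Idx K) = nW D K l' := by
    intro m
    induction m with
    | nil => exact fun _ => ⟨[], by simp, by simp [nW_nil]⟩
    | cons x m ih =>
      intro h
      obtain ⟨j, hj, hx⟩ := h x (List.mem_cons_self ..)
      obtain ⟨l', hl', e⟩ := ih fun z hz => h z (List.mem_cons_of_mem _ hz)
      refine ⟨j :: l', ?_, by rw [List.prod_cons, Subgroup.coe_mul, hx, e, nW_cons]⟩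
      intro z hz
      rcases List.mem_cons.1 hz with rfl | hz
      · exact hj
      · exact hl' z hz
  obtain ⟨l', hl', e⟩ := hword l hl
  refine ⟨b, hB ▸ hb, l', hl', b', hB ▸ hb', ?_⟩
  rw [← e]; rfl

/-- A normal subgroup of the parabolic subgroup which `n_c` pushes into it lies in its radical. -/
theorem le_lev_one (hT : D.diagonalSubgroup K = ⊥) (c : Fin D.rank) {N : Subgroup (GL D.Idx K)}
    (hN : N ≤ Lev D K (co · c.val) 0)
    (hnorm : Lev D K (co · c.val) 0 ≤ Subgroup.normalizer (N : Set (GL D.Idx K)))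
    (hconj : ∀ x ∈ N, nS D K c * x * (nS D K c)⁻¹ ∈ Lev D K (co · c.val) 0)
    (hmove : ∀ i : Fin D.rank, i ≠ c → ∀ p : Fin D.nroots, p.val < D.nroots / 2 → co p.val c.val = 0 →
      ∃ v : List (Fin D.rank), (∀ j ∈ v, j ≠ c) ∧ co (sW D (c :: v) p).val c.val <
        co (sW D (c :: v) ⟨D.simple i.val, hF.simple_lt' i.isLt⟩).val c.val) :
    N ≤ Lev D K (co · c.val) 1 := by
  set U := rootClosure D K (D.nroots / 2 ≤ ·)
  have hn : ∀ y ∈ Lev D K (co · c.val) 0, ∀ x ∈ N, y * x * y⁻¹ ∈ N := fun y hy x hx =>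
    (Subgroup.mem_normalizer_iff.1 (hnorm hy) x).1 hx
  have hU : N ≤ U := by
    intro h hh
    obtain ⟨b, hb, l, hl, b', hb', e⟩ := exists_cell_parabolic hF hC hT c (hN hh)
    have hm : b' * b * nW D K l ∈ N := by
      have := hn b' (pos_le_lev_zero hF c hb') h hh
      rwa [e, show b' * (b * nW D K l * b') * b'⁻¹ = b' * b * nW D K l by group] at this
    by_cases hw : sW D l = 1
    · have := hF.nW_mem_diagonal (F := K) hw
      rw [hT, Subgroup.mem_bot] at this
      rw [e, this, mul_one]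
      exact Subgroup.mul_mem _ hb hb'
    exfalso
    obtain ⟨i, hi⟩ := FixedPoints.exists_simple_neg hF l hw
    set q := hF.simpleFin i
    set p := sW D l q
    have hic : i ≠ c := by
      rintro rfl
      have h1 : co p.val i.val = co q.val i.val := co_sW_of_ne hF i l hl q
      have h2 := hF.co_nonneg _ (hF.neg_lt p.isLt) ((hF.neg_lt_half p.isLt).2 hi) i.val i.isLt
      rw [hF.co_neg _ p.isLt i.val i.isLt] at h2
      rw [show co q.val i.val = 1 by
        show co (D.simple i.val) i.val = 1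
        rw [hF.co_simple i.val i.isLt i.val i.isLt, if_pos rfl]] at h1
      omega
    have hp0 : co p.val c.val = 0 := by
      rw [co_sW_of_ne hF c l hl q]
      show co (D.simple i.val) c.val = 0
      rw [hF.co_simple i.val i.isLt c.val c.isLt, if_neg]
      exact fun e' => hic (Fin.ext e')
    obtain ⟨v, hv, hlt⟩ := hmove i hic p hi hp0
    have hx : b' * b * nW D K l ∈ Lev D K (wW D co c.val (c :: v)) 0 := by
      refine conj_mem_wW hF _ ?_
      have := hconj _ (hn _ (nW_mem_lev_zero hF hT c hv) _ hm)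
      rw [nW_cons]
      rwa [show nS D K c * (nW D K v * (b' * b * nW D K l) * (nW D K v)⁻¹) * (nS D K c)⁻¹ =
        nS D K c * nW D K v * (b' * b * nW D K l) * (nS D K c * nW D K v)⁻¹ by group] at this
    have hpq : p ≠ q := by
      intro e'
      have h1 : D.nroots / 2 ≤ q.val := (hF.simple_lt i.val i.isLt).1
      rw [← e'] at h1
      exact absurd hi (not_lt.2 h1)
    obtain ⟨d, hd, -, hcol⟩ := hF.permAct_nW (F := K) l q
    have hm1 : ((b' * b : GL D.Idx K) : Matrix D.Idx D.Idx K) (Sum.inr p) (Sum.inr p) = 1 :=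
      (hF.pos_ut (Subgroup.mul_mem _ hb' hb)).apply_self (by norm_num) _
    have hent : ((b' * b * nW D K l : GL D.Idx K) : Matrix D.Idx D.Idx K) (Sum.inr p) (Sum.inr q) = d := by
      rw [Units.val_mul, Matrix.mul_apply, Finset.sum_eq_single (Sum.inr p)]
      · rw [hcol, if_pos rfl, hm1, one_mul]
      · intro z _ hz; rw [hcol, if_neg hz, mul_zero]
      · simp
    have := lev_ut hF (isWeight_wW hF c.isLt (c :: v)) hx (Sum.inr p) (Sum.inr q) (by
      rw [Matrix.sub_apply, hent, Matrix.one_apply, if_neg (by simpa using hpq), sub_zero]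
      exact hd)
    simp only [wt, Sum.elim_inr, wW, dif_pos p.isLt, dif_pos q.isLt, Fin.eta, Nat.cast_zero,
      zero_add] at this
    exact absurd hlt (not_lt.2 this)
  obtain ⟨l, hlJ, hl⟩ := Radical.exists_longest_sub hF hC ({c.val}ᶜ : Set ℕ)
  intro h hh
  have hlc : ∀ j ∈ l, j ≠ c := fun j hj e => hlJ j hj (congrArg Fin.val e)
  have hrad := Radical.mem_radical_of_conj hF hC hl (hU hh)
    (hF.pos_le_borel (hU (hn _ (nW_mem_lev_zero hF hT c hlc) h hh)))
  rw [hF.radical_eq] at hrad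
  refine rootClosure_mono (fun r hr hP => ?_) hrad
  have h1 := hF.co_nonneg r hr hP.1 c.val c.isLt
  have h2 : co r c.val ≠ 0 := fun e => hP.2 ((inSub_compl_iff hF c).2 e)
  push_cast
  omega

/-- A normal subgroup of the parabolic subgroup in level `k` which `n_c` pushes into level `m`. -/
theorem le_lev_succ (hT : D.diagonalSubgroup K = ⊥) (c : Fin D.rank) {N : Subgroup (GL D.Idx K)}
    {k m : ℕ} (hk : 1 ≤ k) (hN : N ≤ Lev D K (co · c.val) k)
    (hnorm : Lev D K (co · c.val) 0 ≤ Subgroup.normalizer (N : Set (GL D.Idx K)))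
    (hconj : ∀ x ∈ N, nS D K c * x * (nS D K c)⁻¹ ∈ Lev D K (co · c.val) m)
    (hdesc : ∀ r : Fin D.nroots, co r.val c.val = k → co (sP D c r).val c.val < m ∨
      ∃ j : Fin D.rank, j ≠ c ∧ (sP D j r).val < r.val) :
    N ≤ Lev D K (co · c.val) (k + 1) := by
  have hword : ∀ (n : ℕ) (r : Fin D.nroots), r.val = n → co r.val c.val = k →
      ∃ v : List (Fin D.rank), (∀ j ∈ v, j ≠ c) ∧ co (sW D (c :: v) r).val c.val < m := by
    intro n
    induction n using Nat.strong_induction_on with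
    | _ n ih =>
      intro r hrn hr
      rcases hdesc r hr with h | ⟨j, hj, h⟩
      · exact ⟨[], by simp, by rwa [sW_cons, sW_nil, mul_one]⟩
      · obtain ⟨v, hv, hlt⟩ := ih _ (hrn ▸ h) (sP D j r) rfl (by rw [co_sP_of_ne hF c hj]; exact hr)
        refine ⟨v ++ [j], fun x hx => ?_, ?_⟩
        · rcases List.mem_append.1 hx with hx | hx
          · exact hv x hx
          · rw [List.mem_singleton.1 hx]; exact hj
        · rwa [← List.cons_append, sW_append, sW_cons, sW_cons, sW_nil, mul_one,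
            Equiv.Perm.mul_apply, ← sW_cons]
  intro u hu
  refine lev_clear hF hC (hF.isWeight_co c.isLt) hk (hN hu) fun q hq i => ?_
  obtain ⟨v, hv, hlt⟩ := hword _ q rfl hq
  have hx : u ∈ Lev D K (wW D co c.val (c :: v)) m := by
    refine conj_mem_wW hF _ ?_
    have := hconj _ ((Subgroup.mem_normalizer_iff.1 (hnorm (nW_mem_lev_zero hF hT c hv)) u).1 hu)
    rw [nW_cons]
    rwa [show nS D K c * (nW D K v * u * (nW D K v)⁻¹) * (nS D K c)⁻¹ =
      nS D K c * nW D K v * u * (nS D K c * nW D K v)⁻¹ by group] at this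
  exact col_of_lev hF (isWeight_wW hF c.isLt _) hx q (by simpa [wW, dif_pos q.isLt] using hlt) i

end CfsgLib.ChevCores
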